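import Mathlib.Init

/-!
# Certificates for the central extensions of the presented Lyons group (owner: helper21)

Letters are those of `LyGroup.relWords`. The letters of the subgroup of order 300000 are the eight generators
whose conjugates by the fifth generator are given by the relations.
-/

set_option autoImplicit false

namespace CfsgLib.Sporadic.LyMult

/-- the eight elements conjugated by the fifth generator -/
def kapW : List (List Nat) := [[4], [1, 4, 0], [3, 4, 2], [2, 4, 3], [5, 1, 5, 0, 4, 1, 4, 0], [0], [2, 0, 3],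
  [2, 2, 0, 3, 3]]

/-- their conjugates -/
def piW : List (List Nat) := [[1, 3, 1, 2, 5, 3, 0, 5, 2, 0], [3, 3, 0, 4, 1, 2, 4, 2], [1, 3, 1, 4, 0, 2, 0],
  [3, 1, 2, 4, 3, 0, 2], [2, 2, 1, 3, 4, 2, 0, 4, 3, 3, 5], [1, 1, 1], [2, 1, 3, 1, 1], [0, 2, 2, 0, 3, 3, 1]]

/-- the turns of relator 82 -/
def turn82 : List (List Nat) := [[3, 3, 0, 2, 2], [3, 3, 0, 2, 2], [0, 0, 3, 3, 0, 2, 2]]

/-- the turns of relator 83 -/
def turn83 : List (List Nat) := [[1, 6, 3, 5, 1, 2, 5, 7, 2, 5, 3, 1, 5, 0, 3, 0, 2, 0, 3], [1, 5, 7, 0, 5, 3,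
  0, 5, 7, 1, 5, 0, 4, 3, 3, 5, 3, 1, 3, 3], [5, 7, 1, 5, 1, 2, 5, 7]]

/-- the turns of relator 84 -/
def turn84 : List (List Nat) := [[1, 1, 7], [1, 1, 1, 5, 7, 2, 1, 3, 5, 7, 2, 1, 3, 5, 3, 0, 3, 3, 0, 3], [6],
  [0, 2, 1, 2, 2, 1, 2, 2, 5, 0, 4, 2, 4, 3, 6, 4, 3, 3, 6, 4, 2, 4]]

/-- the turns of relator 85 -/
def turn85 : List (List Nat) := [[2, 0, 3, 1, 3, 3, 1, 3, 4, 2, 2, 4, 2, 6, 4, 3, 3, 6, 4, 2, 4], [0, 3, 3, 1,
  4, 2, 5, 2, 1, 5, 5, 6, 4, 0, 4, 1, 4, 3, 7], [1, 1, 5, 3, 5, 7, 2, 2, 5, 7, 3, 5, 3, 3, 5, 2, 0, 2, 2, 0,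
  2, 1, 3], [1, 1, 7, 0, 4, 2, 4, 1, 5, 7, 0, 3, 1, 4, 1, 3, 3, 1, 2, 1]]

/-- the turns of relator 86 -/
def turn86 : List (List Nat) := [[2, 6], [2, 2, 1, 3, 1, 2, 2, 5, 0, 4, 1, 5, 6, 5, 2, 2, 1, 4, 2], [1, 1, 7,
  3], [1, 1, 5, 1, 4, 2, 5, 7, 4, 1, 4, 0, 4, 3, 1, 3, 1, 2]]

/-- a reflection of relator 84 -/
def refl84 : List (List Nat) := [[5, 7], [5, 7], [5, 5, 5, 6, 5], [5, 6, 5]]

/-- a half turn of relator 84 -/
def half84 : List (List Nat) := [[], [5, 5], []]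

/-- an involution of G2(5) giving product of order three with the half turn -/
def invol84 : List Nat := [7, 3, 2, 7, 3, 6, 4, 3, 6, 0, 0, 0, 0, 7, 2, 5, 7, 2, 6, 3, 2, 6]

/-- a reflection of relator 85 -/
def refl85 : List (List Nat) := [[5, 5, 6, 0, 7, 2, 2, 5], [5, 6, 7], [7, 6, 5], [7, 5, 6, 0, 5, 5]]

/-- a half turn of relator 85 -/
def half85 : List (List Nat) := [[3, 4, 7, 1, 1], [1, 7, 2, 4, 7, 5, 6], [1, 5, 7, 2, 1, 5, 0]]

/-- an involution of G2(5) giving product of order three with the half turn -/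
def invol85 : List Nat := [2, 4, 4, 2, 5, 1, 1, 1, 0, 0, 0, 0, 0, 0, 0, 4, 3, 5, 5, 3]

/-- a reflection of relator 86 -/
def refl86 : List (List Nat) := [[5, 5, 5, 5], [5, 5, 5, 5], [5, 5, 5, 5, 5, 5], [5, 5, 5, 5, 5, 5]]

/-- a half turn of relator 86 -/
def half86 : List (List Nat) := [[5, 5, 5, 6, 7], [5, 7, 5, 6, 5], [7, 6, 5]]

/-- an involution of G2(5) giving product of order three with the half turn -/
def invol86 : List Nat := [5, 7, 0, 7, 4, 2, 5, 0, 0, 0, 0, 4, 3, 5, 6, 1, 6, 4]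

/-- the decomposition of the left turn -/
def tetL : List (List Nat) := [[1, 6, 7, 0], [0, 0, 3, 5, 5, 7, 5, 6]]

/-- the decomposition of the right turn -/
def tetR : List (List Nat) := [[2, 2, 7], [7, 5, 0, 6, 2, 5, 7, 5]]

/-- the link of the two decompositions -/
def tetV : List Nat := [4, 7, 2, 5, 5, 7]

end CfsgLib.Sporadic.LyMult
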