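import Cfsg.Agent.Lib.Sporadic.LyMult.Lifts

/-!
# Normalising the lift of the fifth generator (owner: helper21)

In every finite central extension some lift `Z` of `z` squares to the lift of `a^2`, makes the first long relator
hold, and conjugates the eight special elements exactly.
-/

set_option autoImplicit false
set_option maxRecDepth 20000

namespace CfsgLib.Sporadic.LyMult

open Cfsg
open CfsgLib.Sporadic.LyGTwo (P4 L toLy)
open CfsgLib.Sporadic.LyGroup (gl)
open CfsgLib.Sporadic.PairEnum (winv)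

/-- The first long relator. -/
def rel82 : List ℕ := [3, 3, 0, 2, 2, 8, 3, 3, 0, 2, 2, 8, 3, 3, 0, 2, 2, 8, 0, 0]

/-- The word `b⁻² a b²`. -/
def aFour : List ℕ := [3, 3, 0, 2, 2]

theorem rel82_mem : rel82 ∈ tailWords :=
  List.contains_iff_mem.1 (by decide +kernel : tailWords.contains rel82 = true)

theorem sq_mem : ([8, 8, 1, 1] : List ℕ) ∈ tailWords := by simp [tailWords]

variable {Γ : Type*} [Group Γ] {σ : Γ →* Spor.Ly} {ψ : P4 →* Γ}

/-- The lift needed. -/
structure Good (ψ : P4 →* Γ) (σ : Γ →* Spor.Ly) (Z : Γ) : Prop where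
  lifts : σ Z = gl 8
  sq : Z * Z = V ψ [0, 0]
  first : wv ψ Z rel82 = 1
  conj : ∀ r : List ℕ, (∀ i ∈ r, i < 8) → Z⁻¹ * V ψ (kap r) * Z = V ψ (pik r)

theorem central (hσ : Cfsg.IsStemExtension σ) {c : Γ} (hc : c ∈ σ.ker) (g : Γ) : Commute g c :=
  Subgroup.mem_center_iff.1 (hσ.2.1 hc) g

theorem eq_one_of_pow {x : Γ} {m n : ℕ} (hm : x ^ m = 1) (hn : x ^ n = 1) (h : Nat.Coprime m n) : x = 1 := by
  have := pow_gcd_eq_one.2 ⟨hm, hn⟩
  rwa [h.gcd_eq_one, pow_one] at this

theorem kap_cons (i : ℕ) (r : List ℕ) : kap (i :: r) = kapW.getD i [] ++ kap r := by simp [kap]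

theorem pik_cons (i : ℕ) (r : List ℕ) : pik (i :: r) = piW.getD i [] ++ pik r := by simp [pik]

theorem low_getD {i : ℕ} (hi : i < 8) : ∀ k ∈ kapW.getD i [] ++ piW.getD i [], k < 8 := by
  have h := low_words
  rw [Bool.and_eq_true] at h
  intro k hk
  exact (Nat.blt_eq ▸ (List.all_eq_true.1 (List.all_eq_true.1 h.1 i (List.mem_range.2 hi)) k hk) : k < 8)

/-- The discrepancy of conjugation. -/
noncomputable def chi (ψ : P4 →* Γ) (Z : Γ) (i : ℕ) : Γ :=
  Z⁻¹ * V ψ (kapW.getD i []) * Z * (V ψ (piW.getD i []))⁻¹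

variable (hσ : Cfsg.IsStemExtension σ) (hψ : σ.comp ψ = toLy) {Z : Γ} (hZ : σ Z = gl 8)
include hσ hψ hZ

omit hσ in
theorem chi_ker (i : ℕ) : chi ψ Z i ∈ σ.ker := by
  by_cases hi : i < 8
  · have hm : conjRel i ∈ tailWords := by
      simp only [tailWords, List.cons_append, List.mem_cons, List.mem_append, List.mem_map, List.mem_range]
      exact Or.inr (Or.inl ⟨i, hi, rfl⟩)
    have h := wv_ker ψ Z σ hψ hZ hm
    have hk := low_getD hi
    have hw : ∀ k ∈ winv (piW.getD i []), k < 8 := by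
      intro k hk'
      simp only [winv, List.mem_map, List.mem_reverse] at hk'
      obtain ⟨m, hm', rfl⟩ := hk'
      exact LyGTwo.xor_lt_eight (hk m (List.mem_append_right _ hm'))
    rwa [conjRel, wv_append, wv_append, wv_append, wv_nine, wv_eight,
      wv_low ψ Z (fun k hk' => hk k (List.mem_append_left _ hk')), wv_low ψ Z hw, V_winv] at h
  · rw [chi, List.getD_eq_default _ _ (by show kapW.length ≤ i; simp [kapW]; omega),
      List.getD_eq_default _ _ (by show piW.length ≤ i; simp [piW]; omega), V_nil]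
    simp

theorem conj_word : ∀ r : List ℕ,
    Z⁻¹ * V ψ (kap r) * Z = (r.map (chi ψ Z)).prod * V ψ (pik r)
  | [] => by simp [kap, pik, V_nil]
  | i :: r => by
    have e : Z⁻¹ * V ψ (kapW.getD i []) * Z = chi ψ Z i * V ψ (piW.getD i []) := by rw [chi]; group
    have hc : (r.map (chi ψ Z)).prod ∈ σ.ker :=
      Subgroup.list_prod_mem _ fun x hx => by
        obtain ⟨j, -, rfl⟩ := List.mem_map.1 hx
        exact chi_ker hψ hZ j
    rw [kap_cons, pik_cons, V_append, V_append, List.map_cons, List.prod_cons,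
      show Z⁻¹ * (V ψ (kapW.getD i []) * V ψ (kap r)) * Z =
        Z⁻¹ * V ψ (kapW.getD i []) * Z * (Z⁻¹ * V ψ (kap r) * Z) by group, e, conj_word r]
    generalize (r.map (chi ψ Z)).prod = c at hc ⊢
    rw [mul_assoc (chi ψ Z i) _ (c * _), ← mul_assoc (V ψ (piW.getD i [])) c, (central hσ hc _).eq]
    group

theorem chi_rel {r s : List ℕ} (h : (eqA (kap r) (kap s) && eqA (pik r) (pik s)) = true) :
    (r.map (chi ψ Z)).prod = (s.map (chi ψ Z)).prod := by
  rw [Bool.and_eq_true] at h
  have hr := conj_word hσ hψ hZ r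
  rw [V_eq ψ h.1, conj_word hσ hψ hZ s, V_eq ψ h.2] at hr
  exact (mul_right_cancel hr).symm

theorem chi_one : ∀ i < 8, chi ψ Z i = 1 := by
  have com : ∀ i j, Commute (chi ψ Z i) (chi ψ Z j) := fun i j => central hσ (chi_ker hψ hZ j) _
  have q0 := chi_rel hσ hψ hZ (r := [0, 0, 0, 0, 0]) (s := []) (by decide +kernel)
  have q1 := chi_rel hσ hψ hZ (r := [5, 1]) (s := [0, 5]) (by decide +kernel)
  have q2 := chi_rel hσ hψ hZ (r := [1, 5, 0, 0]) (s := [5]) (by decide +kernel)
  have q5 := chi_rel hσ hψ hZ (r := [1, 0, 4]) (s := [0, 1]) (by decide +kernel)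
  have q3 := chi_rel hσ hψ hZ (r := [2, 5]) (s := [5, 2, 2, 2, 0, 3]) (by decide +kernel)
  have q3' := chi_rel hσ hψ hZ (r := [2, 2, 2, 2, 2]) (s := []) (by decide +kernel)
  have q4 := chi_rel hσ hψ hZ (r := [3, 5]) (s := [5, 0, 1, 1, 1, 1, 2, 2, 2, 2, 3, 0, 3]) (by decide +kernel)
  have q6 := chi_rel hσ hψ hZ (r := [6, 5, 6]) (s := [5, 6, 5]) (by decide +kernel)
  have q7 := chi_rel hσ hψ hZ (r := [7, 6, 7]) (s := [6, 7, 6]) (by decide +kernel)
  have q8 := chi_rel hσ hψ hZ (r := [5, 5, 5, 5, 5, 5, 5, 5]) (s := []) (by decide +kernel)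
  have w5 := conj_word hσ hψ hZ [5, 5, 5, 5, 5]
  rw [V_eq ψ (v := [1, 1, 1]) (by decide +kernel), V_eq ψ (u := pik [5, 5, 5, 5, 5]) (v := [0]) (by decide +kernel)] at w5
  simp only [List.map_cons, List.map_nil, List.prod_cons, List.prod_nil, mul_one] at q0 q1 q2 q3 q3' q4 q5 q6 q7 q8 w5
  have p5 : ∀ x : Γ, x ^ 5 = x * (x * (x * (x * x))) := fun x => by simp [pow_succ, mul_assoc]
  set x0 := chi ψ Z 0 with hx0
  set x5 := chi ψ Z 5
  have e1 : chi ψ Z 1 = x0 := mul_left_cancel (q1.trans (com 0 5).eq)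
  have e0 : x0 = 1 := by
    refine eq_one_of_pow (m := 3) (n := 5) ?_ ((p5 x0).trans q0) (by norm_num)
    have c05 : x0 * x5 = x5 * x0 := (com 0 5).eq
    rw [e1, ← mul_assoc x0 x5, c05, mul_assoc x5] at q2
    rw [pow_three]
    exact mul_eq_left.1 q2
  rw [e1, e0] at q5
  rw [e0] at q3
  rw [e1, e0] at q4
  simp only [one_mul, mul_one] at q3 q4 q5
  have e4 : chi ψ Z 4 = 1 := q5
  set x2 := chi ψ Z 2
  set x3 := chi ψ Z 3
  have h23 : x2 * x2 * x3 = 1 := by
    have c25 : x2 * x5 = x5 * x2 := (com 2 5).eq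
    rw [c25, mul_right_inj] at q3
    have := q3.symm
    rw [mul_eq_left] at this
    rw [← this]
    group
  have h24 : x2 * x2 * x2 * x2 * x3 = 1 := by
    have c35 : x3 * x5 = x5 * x3 := (com 3 5).eq
    rw [c35, mul_right_inj] at q4
    apply mul_right_cancel (b := x3)
    rw [one_mul]
    conv_rhs => rw [q4]
    group
  have e2 : x2 = 1 := by
    refine eq_one_of_pow (m := 2) (n := 5) ?_ ((p5 x2).trans q3') (by norm_num)
    rw [show x2 * x2 * x2 * x2 * x3 = x2 * x2 * (x2 * x2 * x3) by group, h23, mul_one] at h24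
    rw [pow_two]
    exact h24
  have e3 : x3 = 1 := by simpa [e2] using h23
  have h56 : ∀ {u v : Γ}, Commute u v → u * (v * u) = v * (u * v) → u = v := by
    intro u v huv h
    rw [← mul_assoc, huv.eq, mul_assoc] at h
    exact mul_right_cancel (mul_left_cancel h)
  have e6 : chi ψ Z 6 = x5 := h56 (com 6 5) q6
  have e7 : chi ψ Z 7 = x5 := (h56 (com 7 6) q7).trans e6
  have e5 : x5 = 1 := by
    refine eq_one_of_pow (m := 15) (n := 8) ?_ (by rw [← q8]; simp [pow_succ, mul_assoc]) (by norm_num)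
    have hk := wv_ker ψ Z σ hψ hZ rel82_mem
    have hu : ∀ k ∈ aFour, k < 8 := by simp [aFour]
    rw [show rel82 = aFour ++ [8] ++ aFour ++ [8] ++ aFour ++ [8] ++ [0, 0] from rfl, wv_append, wv_append,
      wv_append, wv_append, wv_append, wv_append, wv_eight, wv_low ψ Z hu, wv_low ψ Z (w := [0, 0]) (by simp)] at hk
    have ha : V ψ [0] * V ψ aFour = V ψ aFour * V ψ [1, 1, 1] := by
      rw [← V_append, ← V_append]
      exact V_eq ψ (by decide +kernel)
    have hau : Commute (V ψ [0]) (V ψ [0, 0]) := by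
      show _ * _ = _ * _
      rw [← V_append, ← V_append]
      rfl
    set A := V ψ aFour
    set a := V ψ [0]
    set a5 := V ψ [1, 1, 1]
    set U := V ψ [0, 0]
    set y := x5 * (x5 * (x5 * (x5 * x5))) with hy
    have hyk : y ∈ σ.ker := by
      have h5 : x5 ∈ σ.ker := chi_ker hψ hZ 5
      exact mul_mem h5 (mul_mem h5 (mul_mem h5 (mul_mem h5 h5)))
    have hz5 : a5 * Z = Z * a * y := by
      rw [show a5 * Z = Z * (Z⁻¹ * a5 * Z) by group, w5, ← (central hσ hyk a).eq]
      group
    have h1 : a * (A * Z) = A * Z * a * y := by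
      rw [← mul_assoc, ha, mul_assoc, hz5]
      group
    set W := A * Z
    have hW : ∀ t, a * (W * t) = W * (a * t) * y := fun t => by
      rw [← mul_assoc, h1, mul_assoc _ y, ← (central hσ hyk t).eq]
      group
    have h3 : a * (W * (W * (W * U))) = W * (W * (W * U)) * a * (y * (y * y)) := by
      rw [hW, hW, hW, hau.eq]
      group
    rw [show A * Z * A * Z * A * Z * U = W * (W * (W * U)) by simp only [W]; group] at hk
    rw [(central hσ hk a).eq] at h3
    have h4 := mul_eq_left.1 h3.symm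
    rw [hy] at h4
    rw [← h4]
    simp [pow_succ, mul_assoc]
  intro i hi
  interval_cases i
  exacts [e0, e1.trans e0, e2, e3, e4, e5, e6.trans e5, e7.trans e5]

/-- A normalised lift. -/
theorem exists_good : ∃ T : Γ, Good ψ σ T := by
  have hc1 : ∀ r : List ℕ, (∀ i ∈ r, i < 8) → Z⁻¹ * V ψ (kap r) * Z = V ψ (pik r) := by
    intro r hr
    rw [conj_word hσ hψ hZ r, List.prod_eq_one (fun x hx => by
      obtain ⟨j, hj, rfl⟩ := List.mem_map.1 hx
      exact chi_one hσ hψ hZ j (hr j hj)), one_mul]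
  set A := V ψ aFour with hA
  set U := V ψ [0, 0] with hU
  have hu : ∀ k ∈ aFour, k < 8 := by simp [aFour]
  have hsplit : ∀ T, wv ψ T rel82 = A * T * A * T * A * T * U := fun T => by
    rw [show rel82 = aFour ++ [8] ++ aFour ++ [8] ++ aFour ++ [8] ++ [0, 0] from rfl, wv_append, wv_append,
      wv_append, wv_append, wv_append, wv_append, wv_eight, wv_low ψ T hu, wv_low ψ T (w := [0, 0]) (by simp)]
  set e := Z * Z * U⁻¹ with he
  have hek : e ∈ σ.ker := by
    have h := wv_ker ψ Z σ hψ hZ sq_mem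
    rw [show ([8, 8, 1, 1] : List ℕ) = [8] ++ [8] ++ [1, 1] from rfl, wv_append, wv_append, wv_eight,
      wv_low ψ Z (w := [1, 1]) (by simp), show ([1, 1] : List ℕ) = winv [0, 0] from rfl, V_winv] at h
    exact h
  have hZZ : Z * Z = e * U := by rw [he]; group
  clear_value e
  have hk := wv_ker ψ Z σ hψ hZ rel82_mem
  rw [hsplit] at hk
  set k := A * Z * A * Z * A * Z * U with hkdef
  have hAA : A * A = U := by rw [hA, hU, ← V_append]; exact V_eq ψ (by decide +kernel)
  have hU4 : U * U * U * U = 1 := by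
    rw [hU, ← V_append, ← V_append, ← V_append, ← V_nil ψ]; exact V_eq ψ (by decide +kernel)
  have hZU : Commute Z U := by
    have h : Z * (e * U) = e * U * Z := by rw [← hZZ]; group
    rw [← mul_assoc, (central hσ hek Z).eq, mul_assoc, mul_assoc] at h
    exact mul_left_cancel h
  have hAU : Commute A U := by
    show A * U = U * A
    rw [← hAA]; group
  have hz : ∀ {X : Γ}, Commute Z X → Z * X * Z = e * (U * X) := fun {X} hX => by
    rw [mul_assoc, ← hX.eq, ← mul_assoc, hZZ, mul_assoc]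
  have ha : ∀ {X : Γ}, Commute A X → A * X * A = U * X := fun {X} hX => by
    rw [mul_assoc, ← hX.eq, ← mul_assoc, hAA]
  have cA : Commute A e := central hσ hek A
  have cZ : Commute Z e := central hσ hek Z
  have cU : Commute U e := central hσ hek U
  have hkk : k * k = e * e * e := by
    have h0 : A⁻¹ * k * A = k := by rw [mul_assoc, ← (central hσ hk A).eq]; group
    have h1 : A⁻¹ * k * A = Z * A * Z * A * Z * U * A := by rw [hkdef]; group
    rw [h0] at h1
    calc k * k = k * (Z * A * Z * A * Z * U * A) := by rw [← h1]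
      _ = A * (Z * (A * (Z * (A * (Z * U * Z) * A) * Z) * A) * Z) * U * A := by rw [hkdef]; group
      _ = A * (Z * (A * (Z * (e * (U * U * U)) * Z) * A) * Z) * U * A := by
        rw [hz hZU, ha (cA.mul_right (hAU.mul_right hAU)), ← mul_assoc U e, cU.eq]
        group
      _ = A * (Z * (A * (e * e) * A) * Z) * U * A := by
        rw [hz (cZ.mul_right ((hZU.mul_right hZU).mul_right hZU)), ← mul_assoc U e, cU.eq,
          show e * (e * U * (U * U * U)) = e * e * (U * U * U * U) by group, hU4, mul_one]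
      _ = A * (Z * (U * (e * e)) * Z) * U * A := by rw [ha (cA.mul_right cA)]
      _ = A * (e * (U * (U * (e * e)))) * U * A := by rw [hz (hZU.mul_right (cZ.mul_right cZ))]
      _ = e * e * e * (A * (U * U * U) * A) := by
        have c2 : U * (U * (e * e)) = e * e * (U * U) := by
          rw [← mul_assoc, ((cU.mul_right cU).mul_left (cU.mul_right cU)).eq]
        rw [c2, show A * (e * (e * e * (U * U))) * U * A = A * (e * (e * e)) * ((U * U * U) * A) by group,
          (cA.mul_right (cA.mul_right cA)).eq]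
        group
      _ = e * e * e := by
        rw [ha ((hAU.mul_right hAU).mul_right hAU), show U * (U * U * U) = U * U * U * U by group, hU4, mul_one]
  set c := e * k⁻¹ with hc
  have hck : c ∈ σ.ker := mul_mem hek (inv_mem hk)
  have cc : ∀ X, Commute X c := fun X => central hσ hck X
  refine ⟨Z * c, by rw [map_mul, MonoidHom.mem_ker.1 hck, mul_one, hZ], ?_, ?_, ?_⟩
  · show Z * c * (Z * c) = U
    have cek : Commute e k := central hσ hk e
    rw [show Z * c * (Z * c) = Z * (c * Z) * c by group, ← (cc Z).eq,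
      show Z * (Z * c) * c = Z * Z * (c * c) by group, hZZ, mul_assoc, ((cc U).mul_right (cc U)).eq, ← mul_assoc,
      hc, show e * (e * k⁻¹ * (e * k⁻¹)) = e * e * (k⁻¹ * e) * k⁻¹ by group, ← (cek.inv_right).eq,
      show e * e * (e * k⁻¹) * k⁻¹ = e * e * e * (k * k)⁻¹ by group, hkk, mul_inv_cancel, one_mul]
  · rw [hsplit]
    have hmove : ∀ X, c * X = X * c := fun X => (cc X).eq.symm
    have cek : Commute e k := central hσ hk e
    have : A * (Z * c) * A * (Z * c) * A * (Z * c) * U = k * (c * c * c) := by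
      have hW := ((cc (A * Z)).mul_pow 3)
      have hcU : c ^ 3 * U = U * c ^ 3 := ((cc U).pow_right 3).eq.symm
      calc A * (Z * c) * A * (Z * c) * A * (Z * c) * U = (A * Z * c) ^ 3 * U := by
            simp [pow_succ, mul_assoc]
        _ = (A * Z) ^ 3 * U * c ^ 3 := by rw [hW, mul_assoc, hcU, ← mul_assoc]
        _ = k * (c * c * c) := by simp [hkdef, pow_succ, mul_assoc]
    rw [this, hc, show k * (e * k⁻¹ * (e * k⁻¹) * (e * k⁻¹)) = (k * e) * k⁻¹ * (e * k⁻¹) * (e * k⁻¹) by group,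
      ← cek.eq, show e * k * k⁻¹ * (e * k⁻¹) * (e * k⁻¹) = e * e * (k⁻¹ * e) * k⁻¹ by group, ← (cek.inv_right).eq,
      show e * e * (e * k⁻¹) * k⁻¹ = e * e * e * (k * k)⁻¹ by group, hkk, mul_inv_cancel]
  · intro r hr
    rw [show (Z * c)⁻¹ * V ψ (kap r) * (Z * c) = c⁻¹ * (Z⁻¹ * V ψ (kap r) * Z) * c by group, hc1 r hr,
      mul_assoc, (cc _).eq, inv_mul_cancel_left]

end CfsgLib.Sporadic.LyMult
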