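import Cfsg.Agent.Lib.Sporadic.LyMult.Words
import Cfsg.Agent.Lib.Schur.CentralLift

/-!
# Lifts in a central extension of the presented Lyons group (owner: helper21)

The extension receives a map of G2(5) and a lift `Z` of the fifth generator. Once `Z` conjugates the eight
special elements to the lifts of their conjugates, squares to the lift of `a^2` and the five long relators hold,
the presented group maps back and the kernel is trivial.
-/

set_option autoImplicit false
set_option maxRecDepth 20000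

namespace CfsgLib.Sporadic.LyMult

open Cfsg
open CfsgLib.Sporadic.LyGTwo (P4 L L_flp toLy evalAd idAd)
open CfsgLib.Sporadic.LyGroup (gl gl_flp gl_rel relWords)
open CfsgLib.Sporadic.PairEnum (flp winv prod_winv)

/-- A word in the eight special elements. -/
def kap (r : List ℕ) : List ℕ := r.flatMap fun i => kapW.getD i []

/-- The conjugate of such a word. -/
def pik (r : List ℕ) : List ℕ := r.flatMap fun i => piW.getD i []

/-- The conjugation relator of one special element. -/
noncomputable def conjRel (i : ℕ) : List ℕ := [9] ++ kapW.getD i [] ++ [8] ++ winv (piW.getD i [])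

/-- The relators with the fifth letter, in the form used. -/
noncomputable def tailWords : List (List ℕ) :=
  [8, 8, 1, 1] :: (List.range 8).map conjRel ++
  [[3, 3, 0, 2, 2, 8, 3, 3, 0, 2, 2, 8, 3, 3, 0, 2, 2, 8, 0, 0],
    turn83.getD 2 [] ++ [8] ++ turn83.getD 0 [] ++ [8] ++ turn83.getD 1 [] ++ [8],
    [9] ++ (turn84.getD 0 []).drop 2 ++ [9] ++ (turn84.getD 1 []).drop 2 ++ [8] ++ turn84.getD 2 [] ++ [8] ++
      turn84.getD 3 [],
    [8] ++ turn85.getD 0 [] ++ [8] ++ turn85.getD 1 [] ++ [9] ++ (turn85.getD 2 []).drop 2 ++ [9] ++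
      (turn85.getD 3 []).drop 2,
    [8] ++ turn86.getD 0 [] ++ [8] ++ turn86.getD 1 [] ++ [9] ++ (turn86.getD 2 []).drop 2 ++ [9] ++
      (turn86.getD 3 []).drop 2]

theorem relWords_split : relWords.all (fun w => (w.all (fun k => Nat.blt k 8) && decide (evalAd w = idAd)) ||
    tailWords.contains w) = true := by decide +kernel

theorem tail_mem : tailWords.all (fun w => relWords.contains w) = true := by decide +kernel

theorem tail_one {w : List ℕ} (hw : w ∈ tailWords) : (w.map gl).prod = 1 :=
  gl_rel (List.contains_iff_mem.1 (List.all_eq_true.1 tail_mem w hw))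

theorem low_words : (((List.range 8).all fun i => (kapW.getD i [] ++ piW.getD i []).all fun k => Nat.blt k 8) &&
    (turn82 ++ turn83 ++ turn84 ++ turn85 ++ turn86 ++ [invol84, invol85, invol86]).all fun w =>
      w.all fun k => Nat.blt k 8) = true := by decide +kernel

variable {Γ : Type*} [Group Γ] (ψ : P4 →* Γ) (Z : Γ)

/-- A word of G2(5) in the extension. -/
noncomputable def V (w : List ℕ) : Γ := ψ (w.map L).prod

theorem V_append (u v : List ℕ) : V ψ (u ++ v) = V ψ u * V ψ v := by simp [V]

theorem V_nil : V ψ [] = 1 := by simp [V]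

theorem V_winv (w : List ℕ) : V ψ (winv w) = (V ψ w)⁻¹ := by rw [V, prod_winv L_flp, map_inv, V]

theorem V_eq {u v : List ℕ} (h : eqA u v = true) : V ψ u = V ψ v := congrArg ψ (eqA_eq h)

/-- A letter in the extension. -/
noncomputable def lv (k : ℕ) : Γ := if k = 8 then Z else if k = 9 then Z⁻¹ else ψ (L k)

/-- A word in the extension. -/
noncomputable def wv (w : List ℕ) : Γ := (w.map (lv ψ Z)).prod

theorem wv_append (u v : List ℕ) : wv ψ Z (u ++ v) = wv ψ Z u * wv ψ Z v := by simp [wv]

theorem wv_eight : wv ψ Z [8] = Z := by simp [wv, lv]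

theorem wv_nine : wv ψ Z [9] = Z⁻¹ := by simp [wv, lv]

theorem wv_low {w : List ℕ} (hw : ∀ k ∈ w, k < 8) : wv ψ Z w = V ψ w := by
  rw [V, map_list_prod, List.map_map]
  refine congrArg List.prod (List.map_congr_left fun k hk => ?_)
  have := hw k hk
  rw [Function.comp_apply, lv, if_neg (by omega), if_neg (by omega)]

theorem lv_flp (k : ℕ) : lv ψ Z (flp k) = (lv ψ Z k)⁻¹ := by
  by_cases h8 : k = 8
  · subst h8
    simp [lv, show flp 8 = 9 from rfl]
  by_cases h9 : k = 9
  · subst h9
    simp [lv, show flp 9 = 8 from rfl]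
  have hne : flp k ≠ 8 ∧ flp k ≠ 9 := by
    constructor <;> intro h <;> have h' := congrArg flp h <;> rw [LyGroup.flp_flp] at h'
    · exact h9 (h'.trans rfl)
    · exact h8 (h'.trans rfl)
  rw [lv, lv, if_neg hne.1, if_neg hne.2, if_neg h8, if_neg h9, L_flp, map_inv]

/-- The product over the turns of a closed walk. -/
noncomputable def cyc (As : List (List ℕ)) : Γ := (As.map fun A => Z * V ψ A).prod

theorem cyc_three (A B C : List ℕ) : cyc ψ Z [A, B, C] = Z * V ψ A * (Z * V ψ B) * (Z * V ψ C) := by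
  simp [cyc, mul_assoc]

theorem cyc_four (A B C D : List ℕ) :
    cyc ψ Z [A, B, C, D] = Z * V ψ A * (Z * V ψ B) * (Z * V ψ C) * (Z * V ψ D) := by
  simp [cyc, mul_assoc]

section Over

variable (σ : Γ →* Spor.Ly) (hψ : σ.comp ψ = toLy)
include hψ

theorem map_V {w : List ℕ} (hw : ∀ k ∈ w, k < 8) : σ (V ψ w) = (w.map gl).prod := by
  rw [V, ← MonoidHom.comp_apply, hψ, map_list_prod, List.map_map]
  exact congrArg List.prod (List.map_congr_left fun k hk => toLy_L (hw k hk))

variable (hZ : σ Z = gl 8)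
include hZ

theorem map_lv (k : ℕ) : σ (lv ψ Z k) = gl k := by
  by_cases h8 : k = 8
  · subst h8; simp [lv, hZ]
  by_cases h9 : k = 9
  · subst h9
    rw [show (9 : ℕ) = flp 8 from rfl, lv_flp, gl_flp, map_inv]
    simp [lv, hZ]
  rw [lv, if_neg h8, if_neg h9, ← MonoidHom.comp_apply, hψ]
  by_cases h : k < 8
  · exact toLy_L h
  · rw [L_big h, map_one, gl_big (by omega)]

theorem map_wv (w : List ℕ) : σ (wv ψ Z w) = (w.map gl).prod := by
  rw [wv, map_list_prod, List.map_map]
  exact congrArg List.prod (List.map_congr_left fun k _ => map_lv ψ Z σ hψ hZ k)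

theorem wv_ker {w : List ℕ} (hw : w ∈ tailWords) : wv ψ Z w ∈ σ.ker := by
  rw [MonoidHom.mem_ker, map_wv ψ Z σ hψ hZ, tail_one hw]

/-- When all the relators hold, the kernel is trivial. -/
theorem ker_eq_bot (hσ : Cfsg.IsStemExtension σ) (hrel : ∀ w ∈ tailWords, wv ψ Z w = 1) : σ.ker = ⊥ := by
  have hall : ∀ w ∈ relWords, (w.map (lv ψ Z)).prod = 1 := by
    intro w hw
    have h := List.all_eq_true.1 relWords_split w hw
    rw [Bool.or_eq_true, Bool.and_eq_true, decide_eq_true_eq, List.contains_iff_mem] at h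
    rcases h with ⟨h8, he⟩ | h
    · change wv ψ Z w = 1
      rw [wv_low ψ Z (by simpa using h8), ← V_nil ψ]
      refine V_eq ψ ?_
      simp only [eqA, List.append_nil, h8, Bool.true_and, decide_eq_true_eq]
      exact he
    · exact hrel w h
  let s : Spor.Ly →* Γ := LyGroup.lift (lv ψ Z) (lv_flp ψ Z) hall
  have hs : ∀ j, σ (s j) = j := by
    intro j
    refine DFunLike.congr_fun (PresentedGroup.ext (φ := σ.comp s) (ψ := MonoidHom.id Spor.Ly) fun g => ?_) j
    rw [MonoidHom.comp_apply, LyGroup.lift_of, MonoidHom.id_apply, LyGroup.of_eq_word]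
    exact map_wv ψ Z σ hψ hZ _
  have htop : s.range = ⊤ := CfsgLib.Schur.eq_top_of_stem σ hσ _ (by
    rw [eq_top_iff]
    exact fun j _ => ⟨s j, ⟨j, rfl⟩, hs j⟩)
  rw [Subgroup.eq_bot_iff_forall]
  intro z hz
  obtain ⟨j, rfl⟩ : z ∈ s.range := htop ▸ Subgroup.mem_top z
  rw [MonoidHom.mem_ker, hs] at hz
  rw [hz, map_one]

end Over

end CfsgLib.Sporadic.LyMult
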