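import Cfsg.Agent.Lib.Sporadic.LyRep.Hom
import Cfsg.Agent.Lib.Sporadic.LyMult.Data

/-!
# The half turns times involutions of G2(5) have order three (owner: helper21)
-/

set_option autoImplicit false
set_option maxRecDepth 20000
set_option Elab.async false

namespace CfsgLib.Sporadic.LyMult

theorem half84_check : Nat.beq (LyRep.evalSp LyRep.rmLit LyRep.maskLit LyRep.oneLit LyRep.spMats
    (((half84.getD 0 []).flatMap (fun i => kapW.getD i []) ++ [8] ++ turn84.getD 2 [] ++ [8] ++ turn84.getD 3 [] ++ invol84) ++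
      ((half84.getD 0 []).flatMap (fun i => kapW.getD i []) ++ [8] ++ turn84.getD 2 [] ++ [8] ++ turn84.getD 3 [] ++ invol84) ++
      ((half84.getD 0 []).flatMap (fun i => kapW.getD i []) ++ [8] ++ turn84.getD 2 [] ++ [8] ++ turn84.getD 3 [] ++ invol84)))
    LyRep.oneLit = true := by decide +kernel

theorem half85_check : Nat.beq (LyRep.evalSp LyRep.rmLit LyRep.maskLit LyRep.oneLit LyRep.spMats
    (((half85.getD 0 []).flatMap (fun i => kapW.getD i []) ++ [8] ++ turn85.getD 2 [] ++ [8] ++ turn85.getD 3 [] ++ invol85) ++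
      ((half85.getD 0 []).flatMap (fun i => kapW.getD i []) ++ [8] ++ turn85.getD 2 [] ++ [8] ++ turn85.getD 3 [] ++ invol85) ++
      ((half85.getD 0 []).flatMap (fun i => kapW.getD i []) ++ [8] ++ turn85.getD 2 [] ++ [8] ++ turn85.getD 3 [] ++ invol85)))
    LyRep.oneLit = true := by decide +kernel

theorem half86_check : Nat.beq (LyRep.evalSp LyRep.rmLit LyRep.maskLit LyRep.oneLit LyRep.spMats
    (((half86.getD 0 []).flatMap (fun i => kapW.getD i []) ++ [8] ++ turn86.getD 2 [] ++ [8] ++ turn86.getD 3 [] ++ invol86) ++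
      ((half86.getD 0 []).flatMap (fun i => kapW.getD i []) ++ [8] ++ turn86.getD 2 [] ++ [8] ++ turn86.getD 3 [] ++ invol86) ++
      ((half86.getD 0 []).flatMap (fun i => kapW.getD i []) ++ [8] ++ turn86.getD 2 [] ++ [8] ++ turn86.getD 3 [] ++ invol86)))
    LyRep.oneLit = true := by decide +kernel

end CfsgLib.Sporadic.LyMult
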