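import Cfsg.Agent.Lib.Sporadic.LyMult.Fix
import Cfsg.Agent.Lib.Sporadic.LyMult.RepChecks
import Cfsg.Agent.Lib.Sporadic.MultiplierEngine
import Cfsg.Agent.S2100

/-!
# The Schur multiplier of the presented Lyons group is trivial (owner: helper21)

The second triangle equals the first by an identity of four triangles. Each quadrangle is inverted by a reflection,
and is the square of the lift of an involution, which is conjugate to an involution of G2(5).
-/

set_option autoImplicit false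
set_option maxRecDepth 20000

namespace CfsgLib.Sporadic.LyMult

open Cfsg
open CfsgLib.Sporadic.LyGTwo (P4 L toLy)
open CfsgLib.Sporadic.LyGroup (gl)
open CfsgLib.Sporadic.PairEnum (winv)

variable {Γ : Type*} [Group Γ] {σ : Γ →* Spor.Ly} {ψ : P4 →* Γ} {Z : Γ}

theorem Good.inv_eq (g : Good ψ σ Z) : Z⁻¹ = Z * V ψ [1, 1] := by
  rw [show ([1, 1] : List ℕ) = winv [0, 0] from rfl, V_winv, ← g.sq]
  group

theorem Good.inv_eq' (g : Good ψ σ Z) : Z⁻¹ = V ψ [1, 1] * Z := by
  rw [show ([1, 1] : List ℕ) = winv [0, 0] from rfl, V_winv, ← g.sq]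
  group

theorem Good.move (g : Good ψ σ Z) {r : List ℕ} (hr : ∀ i ∈ r, i < 8) :
    V ψ (kap r) * Z = Z * V ψ (pik r) := by
  rw [← g.conj r hr]
  group

theorem Good.step (g : Good ψ σ Z) {A B v v' : List ℕ} (hv : v.all (fun i => Nat.blt i 8) = true)
    (h : eqA (B ++ kap v') (pik v ++ A) = true) :
    Z * V ψ B = V ψ (kap v) * (Z * V ψ A) * (V ψ (kap v'))⁻¹ := by
  have e := V_eq ψ h
  rw [V_append, V_append] at e
  rw [← mul_assoc (V ψ (kap v)), g.move (by simpa using hv), mul_assoc Z, ← e]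
  group

/-- A quadrangle with a reflection is inverted by it. -/
theorem Good.reflect (g : Good ψ σ Z) (hσ : Cfsg.IsStemExtension σ) {A B C D v0 v1 v2 v3 : List ℕ}
    (hk : cyc ψ Z [A, B, C, D] ∈ σ.ker)
    (hv : (v0 ++ v1 ++ v2 ++ v3).all (fun i => Nat.blt i 8) = true)
    (h0 : eqA (winv C ++ [1, 1] ++ kap v1) (pik v0 ++ A) = true)
    (h1 : eqA (winv B ++ [1, 1] ++ kap v2) (pik v1 ++ B) = true)
    (h2 : eqA (winv A ++ [1, 1] ++ kap v3) (pik v2 ++ C) = true)
    (h3 : eqA (winv D ++ [1, 1] ++ kap v0) (pik v3 ++ D) = true) :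
    cyc ψ Z [A, B, C, D] * cyc ψ Z [A, B, C, D] = 1 := by
  simp only [List.all_append, Bool.and_eq_true] at hv
  obtain ⟨⟨⟨hv0, hv1⟩, hv2⟩, hv3⟩ := hv
  rw [cyc_four] at hk ⊢
  set k := Z * V ψ A * (Z * V ψ B) * (Z * V ψ C) * (Z * V ψ D) with hkd
  have e : Z * V ψ (winv C ++ [1, 1]) * (Z * V ψ (winv B ++ [1, 1])) * (Z * V ψ (winv A ++ [1, 1])) *
      (Z * V ψ (winv D ++ [1, 1])) = k := by
    rw [g.step hv0 h0, g.step hv1 h1, g.step hv2 h2, g.step hv3 h3]
    calc _ = V ψ (kap v0) * k * (V ψ (kap v0))⁻¹ := by rw [hkd]; group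
      _ = k := by rw [(central hσ hk _).eq]; group
  have e' : k⁻¹ = Z * V ψ (winv C ++ [1, 1]) * (Z * V ψ (winv B ++ [1, 1])) * (Z * V ψ (winv A ++ [1, 1])) *
      (Z * V ψ (winv D ++ [1, 1])) := by
    calc k⁻¹ = V ψ [0, 0] * (V ψ D * k⁻¹ * (V ψ D)⁻¹) * (V ψ [0, 0])⁻¹ := by
          rw [(central hσ (inv_mem hk) (V ψ D)).eq, mul_inv_cancel_right, (central hσ (inv_mem hk) _).eq,
            mul_inv_cancel_right]
      _ = Z * Z * (Z⁻¹ * (V ψ C)⁻¹ * Z⁻¹ * (V ψ B)⁻¹ * Z⁻¹ * (V ψ A)⁻¹ * Z⁻¹ * (V ψ D)⁻¹) *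
          V ψ [1, 1] := by
        rw [g.sq, show ([1, 1] : List ℕ) = winv [0, 0] from rfl, V_winv, hkd]
        group
      _ = Z * ((V ψ C)⁻¹ * Z⁻¹ * ((V ψ B)⁻¹ * Z⁻¹) * ((V ψ A)⁻¹ * Z⁻¹) * ((V ψ D)⁻¹ * V ψ [1, 1])) := by group
      _ = _ := by
        rw [g.inv_eq', V_append, V_append, V_append, V_append, V_winv, V_winv, V_winv, V_winv]
        group
  rw [← inv_mul_cancel k]
  exact congrArg (· * k) (e.symm.trans e'.symm)

/-- A quadrangle with a half turn is the square of a half. -/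
theorem Good.half (g : Good ψ σ Z) {A B C D v0 v1 v2 : List ℕ}
    (hv : (v0 ++ v1).all (fun i => Nat.blt i 8) = true)
    (h0 : eqA (A ++ kap v1) (pik v0 ++ C) = true) (h1 : eqA (B ++ kap v2) (pik v1 ++ D) = true)
    (h2 : eqA (kap v2 ++ kap v0) [] = true) :
    cyc ψ Z [A, B, C, D] =
      V ψ (kap v0) * (Z * V ψ C * (Z * V ψ D)) * (V ψ (kap v0) * (Z * V ψ C * (Z * V ψ D))) := by
  simp only [List.all_append, Bool.and_eq_true] at hv
  have e := V_eq ψ h2
  rw [V_append, V_nil] at e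
  rw [cyc_four, g.step hv.1 h0, g.step hv.2 h1, inv_eq_of_mul_eq_one_right e]
  group

/-- The half is an involution conjugate to one of G2(5). -/
theorem half_sq_one [IsSimpleGroup Spor.Ly] (hσ : Cfsg.IsStemExtension σ) (he : ∀ c ∈ σ.ker, c ^ 2 = 1)
    (hψ : σ.comp ψ = toLy) (hZ : σ Z = gl 8) {Xw Aw : List ℕ} {X : Γ}
    (hX : wv ψ Z Xw = X) (hXX : X * X ∈ σ.ker) (hA8 : Aw.all (fun k => Nat.blt k 8) = true)
    (hAA : eqA (Aw ++ Aw) [] = true)
    (hlt : (Xw ++ Aw ++ (Xw ++ Aw) ++ (Xw ++ Aw)).all (fun x => Nat.blt x 10) = true)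
    (h : Nat.beq (LyRep.evalSp LyRep.rmLit LyRep.maskLit LyRep.oneLit LyRep.spMats
      (Xw ++ Aw ++ (Xw ++ Aw) ++ (Xw ++ Aw))) LyRep.oneLit = true) :
    X * X = 1 := by
  have e := map_wv ψ Z σ hψ hZ (Xw ++ Aw ++ (Xw ++ Aw) ++ (Xw ++ Aw))
  rw [gl_prod_one hlt h, wv_append, wv_append, wv_append, hX, wv_low ψ Z (by simpa using hA8)] at e
  set A := V ψ Aw
  have hA2 : A * A = 1 := by rw [← V_append, ← V_nil ψ]; exact V_eq ψ hAA
  set d := (X * A * (X * A) * A * (X * A * (X * A))⁻¹)⁻¹ * X with hd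
  have hdk : d ∈ σ.ker := by
    have ha : σ A * σ A = 1 := by rw [← map_mul, hA2, map_one]
    have hx : σ X * σ X = 1 := by rw [← map_mul]; exact hXX
    simp only [map_mul] at e
    have hai : (σ A)⁻¹ = σ A := inv_eq_of_mul_eq_one_right ha
    have hxi : (σ X)⁻¹ = σ X := inv_eq_of_mul_eq_one_right hx
    rw [MonoidHom.mem_ker, hd, map_mul, map_inv, inv_mul_eq_one]
    simp only [map_mul, map_inv, mul_inv_rev, hai, hxi]
    calc σ X * σ A * (σ X * σ A) * σ A * (σ A * σ X * (σ A * σ X))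
        = σ X * σ A * σ X * (σ A * σ A) * σ A * σ X * σ A * σ X := by group
      _ = σ X * σ A * (σ X * σ A) * (σ X * σ A) * σ X := by rw [ha]; group
      _ = σ X := by rw [e, one_mul]
  have hXe : X = X * A * (X * A) * A * (X * A * (X * A))⁻¹ * d := by rw [hd]; group
  generalize hG : X * A * (X * A) = G at hXe
  have hc := central hσ hdk
  calc X * X = G * A * G⁻¹ * d * (G * A * G⁻¹ * d) := by rw [← hXe]
    _ = G * A * G⁻¹ * (d * (G * A * G⁻¹)) * d := by group
    _ = G * A * G⁻¹ * (G * A * G⁻¹ * d) * d := by rw [← (hc (G * A * G⁻¹)).eq]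
    _ = G * (A * A) * G⁻¹ * (d * d) := by group
    _ = 1 := by rw [hA2, ← pow_two, he d hdk]; group

theorem Good.base (g : Good ψ σ Z) (hσ : Cfsg.IsStemExtension σ) {A B C : List ℕ}
    (hk : cyc ψ Z [A, B, C] ∈ σ.ker) :
    Z * V ψ A * Z = V ψ (winv C) * Z * V ψ ([1, 1] ++ winv B) * cyc ψ Z [A, B, C] := by
  have e : V ψ (winv C) * Z * V ψ ([1, 1] ++ winv B) = (V ψ C)⁻¹ * Z⁻¹ * (V ψ B)⁻¹ := by
    rw [V_append, g.inv_eq, V_winv, V_winv]
    group
  rw [e, (central hσ hk _).eq, cyc_three]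
  group

/-- Moving a triangle through the special elements. -/
theorem Good.moved (g : Good ψ σ Z) (hσ : Cfsg.IsStemExtension σ) {A P Q x v w : List ℕ} {k : Γ}
    (hk : k ∈ σ.ker) (hb : Z * V ψ A * Z = V ψ P * Z * V ψ Q * k)
    (hvw : (v ++ w).all (fun i => Nat.blt i 8) = true) (hx : eqA x (kap v ++ A ++ kap w) = true) :
    Z * V ψ x * Z = V ψ ([0, 0] ++ pik v ++ [1, 1] ++ P) * Z * V ψ (Q ++ pik w) * k := by
  simp only [List.all_append, Bool.and_eq_true] at hvw
  have hv := g.conj v (by simpa using hvw.1)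
  have hU : V ψ [0, 0] = Z * Z := g.sq.symm
  have hUi : V ψ [1, 1] = (Z * Z)⁻¹ := by rw [show ([1, 1] : List ℕ) = winv [0, 0] from rfl, V_winv, hU]
  calc Z * V ψ x * Z = Z * Z * (Z⁻¹ * V ψ (kap v) * Z) * (Z * Z)⁻¹ * (Z * V ψ A * Z) *
        (Z⁻¹ * V ψ (kap w) * Z) := by
        rw [V_eq ψ hx, V_append, V_append]; group
    _ = V ψ [0, 0] * V ψ (pik v) * V ψ [1, 1] * (V ψ P * Z * V ψ Q * k) * V ψ (pik w) := by
        rw [hv, hb, g.conj w (by simpa using hvw.2), hU, hUi]
    _ = V ψ [0, 0] * V ψ (pik v) * V ψ [1, 1] * V ψ P * Z * V ψ Q * (k * V ψ (pik w)) := by group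
    _ = _ := by
        rw [← (central hσ hk _).eq]
        simp only [V_append]
        group

/-- The second triangle is trivial. -/
theorem Good.second (g : Good ψ σ Z) (hσ : Cfsg.IsStemExtension σ) (hk : cyc ψ Z turn83 ∈ σ.ker)
    (h82 : cyc ψ Z turn82 = 1) : cyc ψ Z turn83 = 1 := by
  set k := cyc ψ Z turn83
  let A := turn82.getD 0 []
  let B := turn83.getD 0 []
  let PA := winv (turn82.getD 2 [])
  let QA := [1, 1] ++ winv (turn82.getD 1 [])
  let PB := winv (turn83.getD 2 [])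
  let QB := [1, 1] ++ winv (turn83.getD 1 [])
  have hA : Z * V ψ A * Z = V ψ PA * Z * V ψ QA := by
    have := g.base hσ (A := A) (B := turn82.getD 1 []) (C := turn82.getD 2 [])
      (by show cyc ψ Z turn82 ∈ σ.ker; rw [h82]; exact one_mem _)
    change Z * V ψ A * Z = _ * cyc ψ Z turn82 at this
    rwa [h82, mul_one] at this
  have hB : Z * V ψ B * Z = V ψ PB * Z * V ψ QB * k :=
    g.base hσ (A := B) (B := turn83.getD 1 []) (C := turn83.getD 2 []) hk
  let Pl := [0, 0] ++ pik (tetL.getD 0 []) ++ [1, 1] ++ PB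
  let Ql := QB ++ pik (tetL.getD 1 [])
  let Pr := [0, 0] ++ pik (tetR.getD 0 []) ++ [1, 1] ++ PB
  let Qr := QB ++ pik (tetR.getD 1 [])
  have hl : Z * V ψ (QA ++ B) * Z = V ψ Pl * Z * V ψ Ql * k :=
    g.moved hσ hk hB (v := tetL.getD 0 []) (w := tetL.getD 1 []) (by decide +kernel) (by decide +kernel)
  have hr : Z * V ψ (A ++ PB) * Z = V ψ Pr * Z * V ψ Qr * k :=
    g.moved hσ hk hB (v := tetR.getD 0 []) (w := tetR.getD 1 []) (by decide +kernel) (by decide +kernel)
  have e1 : eqA (PA ++ Pl) (Pr ++ kap tetV) = true := by decide +kernel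
  have e2 : eqA (pik tetV ++ Ql) (Qr ++ QB) = true := by decide +kernel
  have E1 : V ψ PA * V ψ Pl = V ψ Pr * V ψ (kap tetV) := by rw [← V_append, ← V_append]; exact V_eq ψ e1
  have E2 : V ψ (pik tetV) * V ψ Ql = V ψ Qr * V ψ QB := by rw [← V_append, ← V_append]; exact V_eq ψ e2
  rw [V_append] at hl hr
  have hleft : Z * V ψ A * Z * V ψ B * Z = V ψ Pr * Z * V ψ Qr * V ψ QB * k := by
    calc Z * V ψ A * Z * V ψ B * Z = V ψ PA * (Z * (V ψ QA * V ψ B) * Z) := by rw [hA]; group
      _ = V ψ PA * V ψ Pl * Z * V ψ Ql * k := by rw [hl]; group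
      _ = V ψ Pr * (V ψ (kap tetV) * Z) * V ψ Ql * k := by rw [E1]; group
      _ = V ψ Pr * Z * (V ψ (pik tetV) * V ψ Ql) * k := by
        rw [g.move (r := tetV) (by simp [tetV])]; group
      _ = _ := by rw [E2]; group
  have hright : Z * V ψ A * Z * V ψ B * Z = V ψ Pr * Z * V ψ Qr * V ψ QB * k * k := by
    calc Z * V ψ A * Z * V ψ B * Z = Z * V ψ A * (Z * V ψ B * Z) := by group
      _ = Z * (V ψ A * V ψ PB) * Z * V ψ QB * k := by rw [hB]; group
      _ = V ψ Pr * Z * V ψ Qr * (k * V ψ QB) * k := by rw [hr]; group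
      _ = _ := by rw [← (central hσ hk _).eq]; group
  exact mul_eq_left.1 (hright.symm.trans hleft)

/-- The kernel of an extension of prime exponent is trivial. -/
theorem prime_case [IsSimpleGroup Spor.Ly] (hσ : Cfsg.IsStemExtension σ) {p : ℕ} (hp : p.Prime)
    (he : ∀ c ∈ σ.ker, c ^ p = 1) (hψ : σ.comp ψ = toLy) : σ.ker = ⊥ := by
  obtain ⟨Z0, hZ0⟩ := hσ.1 (gl 8)
  obtain ⟨Z, g⟩ := exists_good hσ hψ hZ0
  have hlow : ∀ {w}, w ∈ turn82 ++ turn83 ++ turn84 ++ turn85 ++ turn86 ++ [invol84, invol85, invol86] →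
      ∀ k ∈ w, k < 8 := fun {w} hw => by
    have h := low_words
    rw [Bool.and_eq_true] at h
    simpa using List.all_eq_true.1 h.2 w hw
  have low11 : ∀ {t : List ℕ}, ([1, 1] ++ t) ∈
      turn82 ++ turn83 ++ turn84 ++ turn85 ++ turn86 ++ [invol84, invol85, invol86] → ∀ k ∈ t, k < 8 :=
    fun h k hk => hlow h k (List.mem_append_right _ hk)
  have hnine : ∀ {t : List ℕ}, (∀ k ∈ t, k < 8) → wv ψ Z ([9] ++ t) = Z * V ψ ([1, 1] ++ t) := fun ht => by
    rw [wv_append, wv_nine, wv_low ψ Z ht, g.inv_eq, V_append, mul_assoc]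
  have height : ∀ {t : List ℕ}, (∀ k ∈ t, k < 8) → wv ψ Z ([8] ++ t) = Z * V ψ t := fun ht => by
    rw [wv_append, wv_eight, wv_low ψ Z ht]
  have w84 : cyc ψ Z turn84 = wv ψ Z (tailWords.getD 11 []) := by
    have e : tailWords.getD 11 [] = ([9] ++ (turn84.getD 0 []).drop 2) ++ ([9] ++ (turn84.getD 1 []).drop 2) ++
        ([8] ++ turn84.getD 2 []) ++ ([8] ++ turn84.getD 3 []) := by decide +kernel
    have t : turn84 = [[1, 1] ++ (turn84.getD 0 []).drop 2, [1, 1] ++ (turn84.getD 1 []).drop 2,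
        turn84.getD 2 [], turn84.getD 3 []] := by decide +kernel
    rw [e, wv_append, wv_append, wv_append, hnine (low11 (by decide +kernel)), hnine (low11 (by decide +kernel)),
      height (hlow (by decide +kernel)), height (hlow (by decide +kernel))]
    conv_lhs => rw [t, cyc_four]
  have w85 : cyc ψ Z turn85 = wv ψ Z (tailWords.getD 12 []) := by
    have e : tailWords.getD 12 [] = ([8] ++ turn85.getD 0 []) ++ ([8] ++ turn85.getD 1 []) ++
        ([9] ++ (turn85.getD 2 []).drop 2) ++ ([9] ++ (turn85.getD 3 []).drop 2) := by decide +kernel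
    have t : turn85 = [turn85.getD 0 [], turn85.getD 1 [], [1, 1] ++ (turn85.getD 2 []).drop 2,
        [1, 1] ++ (turn85.getD 3 []).drop 2] := by decide +kernel
    rw [e, wv_append, wv_append, wv_append, hnine (low11 (by decide +kernel)), hnine (low11 (by decide +kernel)),
      height (hlow (by decide +kernel)), height (hlow (by decide +kernel))]
    conv_lhs => rw [t, cyc_four]
  have w86 : cyc ψ Z turn86 = wv ψ Z (tailWords.getD 13 []) := by
    have e : tailWords.getD 13 [] = ([8] ++ turn86.getD 0 []) ++ ([8] ++ turn86.getD 1 []) ++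
        ([9] ++ (turn86.getD 2 []).drop 2) ++ ([9] ++ (turn86.getD 3 []).drop 2) := by decide +kernel
    have t : turn86 = [turn86.getD 0 [], turn86.getD 1 [], [1, 1] ++ (turn86.getD 2 []).drop 2,
        [1, 1] ++ (turn86.getD 3 []).drop 2] := by decide +kernel
    rw [e, wv_append, wv_append, wv_append, hnine (low11 (by decide +kernel)), hnine (low11 (by decide +kernel)),
      height (hlow (by decide +kernel)), height (hlow (by decide +kernel))]
    conv_lhs => rw [t, cyc_four]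
  have hmem : ∀ n < 14, tailWords.getD n [] ∈ tailWords := by
    intro n hn
    have : n < tailWords.length := by simpa [tailWords] using hn
    rw [List.getD_eq_getElem _ _ this]
    exact List.getElem_mem this
  have kker : ∀ n < 14, wv ψ Z (tailWords.getD n []) ∈ σ.ker := fun n hn => wv_ker ψ Z σ hψ g.lifts (hmem n hn)
  have w83 : wv ψ Z (tailWords.getD 10 []) =
      V ψ (turn83.getD 2 []) * cyc ψ Z turn83 * (V ψ (turn83.getD 2 []))⁻¹ := by
    have e : tailWords.getD 10 [] = turn83.getD 2 [] ++ [8] ++ turn83.getD 0 [] ++ [8] ++ turn83.getD 1 [] ++ [8] :=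
      by decide +kernel
    have t : turn83 = [turn83.getD 0 [], turn83.getD 1 [], turn83.getD 2 []] := by decide +kernel
    rw [e, wv_append, wv_append, wv_append, wv_append, wv_append, wv_eight, wv_low ψ Z (hlow (by decide +kernel)),
      wv_low ψ Z (hlow (by decide +kernel)), wv_low ψ Z (hlow (by decide +kernel))]
    conv_rhs => enter [1, 2]; rw [t, cyc_three]
    group
  have h82 : cyc ψ Z turn82 = 1 := by
    have t : turn82 = [aFour, aFour, [0, 0] ++ aFour] := by decide +kernel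
    have e := g.first
    rw [show rel82 = aFour ++ [8] ++ aFour ++ [8] ++ aFour ++ [8] ++ [0, 0] from rfl, wv_append, wv_append,
      wv_append, wv_append, wv_append, wv_append, wv_eight, wv_low ψ Z (w := aFour) (by simp [aFour]),
      wv_low ψ Z (w := [0, 0]) (by simp)] at e
    rw [t, cyc_three, V_append]
    calc _ = (V ψ aFour)⁻¹ * (V ψ aFour * Z * V ψ aFour * Z * V ψ aFour * Z * V ψ [0, 0]) * V ψ aFour := by group
      _ = 1 := by rw [e]; group
  have k83 : cyc ψ Z turn83 ∈ σ.ker := by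
    have h := kker 10 (by norm_num)
    rw [w83, MonoidHom.mem_ker, map_mul, map_mul, map_inv, mul_inv_eq_one, mul_eq_left] at h
    exact h
  have h83 := g.second hσ k83 h82
  have quad : ∀ {k : Γ}, k ∈ σ.ker → k * k = 1 → (p = 2 → k = 1) → k = 1 := by
    intro k hk h h2
    rcases hp.eq_two_or_odd' with rfl | hodd
    · exact h2 rfl
    · exact eq_one_of_pow (by rw [pow_two]; exact h) (he k hk) (Nat.coprime_two_left.2 hodd)
  have half : ∀ {t v : List (List ℕ)} {Aw : List ℕ}, p = 2 → cyc ψ Z t ∈ σ.ker →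
      t = [t.getD 0 [], t.getD 1 [], t.getD 2 [], t.getD 3 []] →
      (∀ k ∈ t.getD 2 [] ++ t.getD 3 [] ++ kap (v.getD 0 []), k < 8) →
      (v.getD 0 [] ++ v.getD 1 []).all (fun i => Nat.blt i 8) = true →
      eqA (t.getD 0 [] ++ kap (v.getD 1 [])) (pik (v.getD 0 []) ++ t.getD 2 []) = true →
      eqA (t.getD 1 [] ++ kap (v.getD 2 [])) (pik (v.getD 1 []) ++ t.getD 3 []) = true →
      eqA (kap (v.getD 2 []) ++ kap (v.getD 0 [])) [] = true →
      Aw.all (fun k => Nat.blt k 8) = true → eqA (Aw ++ Aw) [] = true →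
      (let Xw := kap (v.getD 0 []) ++ [8] ++ t.getD 2 [] ++ [8] ++ t.getD 3 []
       (Xw ++ Aw ++ (Xw ++ Aw) ++ (Xw ++ Aw)).all (fun x => Nat.blt x 10) = true ∧
       Nat.beq (LyRep.evalSp LyRep.rmLit LyRep.maskLit LyRep.oneLit LyRep.spMats
        (Xw ++ Aw ++ (Xw ++ Aw) ++ (Xw ++ Aw))) LyRep.oneLit = true) →
      cyc ψ Z t = 1 := by
    intro t v Aw h2 hk ht hlt8 hv e0 e1 e2 hA8 hAA hrep
    have e := g.half (A := t.getD 0 []) (B := t.getD 1 []) hv e0 e1 e2
    rw [← ht] at e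
    rw [e] at hk ⊢
    subst h2
    refine half_sq_one hσ he hψ g.lifts ?_ hk hA8 hAA hrep.1 hrep.2
    simp only [List.mem_append] at hlt8
    rw [wv_append, wv_append, wv_append, wv_append, wv_eight, wv_low ψ Z (fun k hk' => hlt8 k (Or.inr hk')),
      wv_low ψ Z (fun k hk' => hlt8 k (Or.inl (Or.inl hk'))), wv_low ψ Z (fun k hk' => hlt8 k (Or.inl (Or.inr hk')))]
    group
  have k84 : cyc ψ Z turn84 ∈ σ.ker := w84 ▸ kker 11 (by norm_num)
  have k85 : cyc ψ Z turn85 ∈ σ.ker := w85 ▸ kker 12 (by norm_num)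
  have k86 : cyc ψ Z turn86 ∈ σ.ker := w86 ▸ kker 13 (by norm_num)
  have h84 : cyc ψ Z turn84 = 1 := quad k84
    (g.reflect hσ k84 (v0 := refl84.getD 0 []) (v1 := refl84.getD 1 []) (v2 := refl84.getD 2 [])
      (v3 := refl84.getD 3 []) (by decide +kernel) (by decide +kernel) (by decide +kernel) (by decide +kernel)
      (by decide +kernel))
    fun h => half (v := half84) (Aw := invol84) h k84 (by decide +kernel) (by decide +kernel) (by decide +kernel)
      (by decide +kernel) (by decide +kernel) (by decide +kernel) (by decide +kernel) (by decide +kernel)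
      ⟨by decide +kernel, half84_check⟩
  have h85 : cyc ψ Z turn85 = 1 := quad k85
    (g.reflect hσ k85 (v0 := refl85.getD 0 []) (v1 := refl85.getD 1 []) (v2 := refl85.getD 2 [])
      (v3 := refl85.getD 3 []) (by decide +kernel) (by decide +kernel) (by decide +kernel) (by decide +kernel)
      (by decide +kernel))
    fun h => half (v := half85) (Aw := invol85) h k85 (by decide +kernel) (by decide +kernel) (by decide +kernel)
      (by decide +kernel) (by decide +kernel) (by decide +kernel) (by decide +kernel) (by decide +kernel)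
      ⟨by decide +kernel, half85_check⟩
  have h86 : cyc ψ Z turn86 = 1 := quad k86
    (g.reflect hσ k86 (v0 := refl86.getD 0 []) (v1 := refl86.getD 1 []) (v2 := refl86.getD 2 [])
      (v3 := refl86.getD 3 []) (by decide +kernel) (by decide +kernel) (by decide +kernel) (by decide +kernel)
      (by decide +kernel))
    fun h => half (v := half86) (Aw := invol86) h k86 (by decide +kernel) (by decide +kernel) (by decide +kernel)
      (by decide +kernel) (by decide +kernel) (by decide +kernel) (by decide +kernel) (by decide +kernel)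
      ⟨by decide +kernel, half86_check⟩
  refine ker_eq_bot ψ Z σ hψ g.lifts hσ fun w hw => ?_
  have c1 : tailWords.getD 10 [] :: tailWords.getD 11 [] :: tailWords.getD 12 [] :: [tailWords.getD 13 []] =
      tailWords.drop 10 := by decide +kernel
  have c2 : tailWords.take 10 = [8, 8, 1, 1] :: (List.range 8).map conjRel ++ [rel82] := by decide +kernel
  rw [← List.take_append_drop 10 tailWords, List.mem_append, c2, ← c1] at hw
  simp only [List.mem_append, List.mem_cons, List.not_mem_nil, or_false, List.mem_map, List.mem_range] at hw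
  rcases hw with ((rfl | ⟨i, hi, rfl⟩) | rfl) | (rfl | rfl | rfl | rfl)
  · rw [show ([8, 8, 1, 1] : List ℕ) = [8] ++ [8] ++ [1, 1] from rfl, wv_append, wv_append, wv_eight, g.sq,
      wv_low ψ Z (w := [1, 1]) (by simp), show ([1, 1] : List ℕ) = winv [0, 0] from rfl, V_winv, mul_inv_cancel]
  · have hk := low_getD hi
    have hw' : ∀ k ∈ winv (piW.getD i []), k < 8 := by
      intro k hk'
      simp only [winv, List.mem_map, List.mem_reverse] at hk'
      obtain ⟨m, hm', rfl⟩ := hk'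
      exact LyGTwo.xor_lt_eight (hk m (List.mem_append_right _ hm'))
    have e := g.conj [i] (by simpa using hi)
    simp only [kap, pik, List.flatMap_cons, List.flatMap_nil, List.append_nil] at e
    rw [conjRel, wv_append, wv_append, wv_append, wv_nine, wv_eight,
      wv_low ψ Z (fun k hk' => hk k (List.mem_append_left _ hk')), wv_low ψ Z hw', V_winv, e, mul_inv_cancel]
  · exact g.first
  · rw [w83, h83]; group
  · rw [← w84, h84]
  · rw [← w85, h85]
  · rw [← w86, h86]

theorem card_eq : Fintype.card (ZMod 5) = 5 := ZMod.card 5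

theorem multiplier_P4 : Cfsg.HasCyclicSchurMultiplier P4 1 := by
  haveI : Finite P4 := Nat.finite_of_card_ne_zero (by rw [LyGTwo.card_P4_eq]; norm_num)
  haveI : Finite ↥(Cfsg.Lie.chevG2.group (ZMod 5)) := Finite.of_equiv _ LyGTwo.chevEquiv.toEquiv
  exact CfsgLib.Known.SL2Mult.hasCyclicSchurMultiplier_one_congr LyGTwo.chevEquiv.symm
    (Cfsg.Agent.S2100.result (F := ZMod 5) (by rw [card_eq]))

theorem multiplier_trivial [IsSimpleGroup Spor.Ly] [Finite Spor.Ly] :
    Cfsg.HasCyclicSchurMultiplier Spor.Ly 1 := by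
  haveI : Finite P4 := Nat.finite_of_card_ne_zero (by rw [LyGTwo.card_P4_eq]; norm_num)
  refine CfsgLib.Schur.hasCyclicSchurMultiplier_one_of_forall fun Γ _ _ σ hσ =>
    (Subgroup.eq_bot_iff_forall _).2 fun z hz => ?_
  rw [← orderOf_eq_one_iff]
  by_contra hne
  obtain ⟨r, hr, hrz⟩ := Nat.exists_prime_and_dvd hne
  haveI := Fact.mk hr
  refine Mult.kills_prime σ hσ r (fun Δ _ _ τ hτ he => ?_) hz hrz
  obtain ⟨ψ, hψ⟩ := CfsgLib.Schur.exists_lift_of_perfect τ hτ.1 hτ.2.1 P4_commutator multiplier_P4 toLy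
  refine ⟨⊤, by rw [Subgroup.index_top]; exact hr.not_dvd_one, fun z _ hk _ => ?_⟩
  rw [prime_case hτ hr he hψ] at hk
  exact hk

end CfsgLib.Sporadic.LyMult
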