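import Cfsg.Agent.Lib.Sporadic.LyGTwo.Iso
import Cfsg.Agent.Lib.Sporadic.LyMult.Data

/-!
# Equations of words in G2(5) and in the presented Lyons group (owner: helper21)

Equations in G2(5) are decided in the adjoint matrices, equations in the presented group in the representation of
degree 111, which is faithful once the group is simple.
-/

set_option autoImplicit false
set_option maxRecDepth 20000

namespace CfsgLib.Sporadic.LyMult

open Cfsg
open scoped commutatorElement
open CfsgLib.Sporadic.LyGTwo (P4 L L_flp toLy toAd toChev toChev_bijective toAd_prod evalAd prod_eq_of_evalAd adUnit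
  prod_adUnit map_fr fr toLy_of rels)
open CfsgLib.Sporadic.LyGroup (gl gl_flp gl_rel relWords)
open CfsgLib.Sporadic.PairEnum (flp winv prod_winv)

/-- Equal values of two words in G2(5). -/
noncomputable def eqA (u v : List ℕ) : Bool :=
  (u ++ v).all (fun x => Nat.blt x 8) && decide (evalAd u = evalAd v)

theorem eqA_eq {u v : List ℕ} (h : eqA u v = true) : (u.map L).prod = (v.map L).prod := by
  simp only [eqA, Bool.and_eq_true, List.all_eq_true, Nat.blt_eq, decide_eq_true_eq, List.mem_append] at h
  have hu : ∀ x ∈ u, x < 8 := fun x hx => h.1 x (Or.inl hx)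
  have hv : ∀ x ∈ v, x < 8 := fun x hx => h.1 x (Or.inr hx)
  have e : (u.map adUnit).prod = (v.map adUnit).prod := by
    apply Units.ext
    rw [prod_adUnit hu, prod_adUnit hv]
    exact prod_eq_of_evalAd hu hv h.2
  have e' : toAd (u.map L).prod = toAd (v.map L).prod := by rw [toAd_prod hu, toAd_prod hv, e]
  apply toChev_bijective.injective
  apply Subtype.ext
  exact e'

theorem L_big {k : ℕ} (hk : ¬ k < 8) : L k = 1 := by
  have : ¬ k / 2 < 4 := by omega
  simp [L, fr, this]

theorem toLy_L {k : ℕ} (hk : k < 8) : toLy (L k) = gl k :=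
  map_fr (toLy.comp (PresentedGroup.mk rels)) gl gl_flp (fun i => toLy_of i) hk

theorem gl_big {k : ℕ} (hk : ¬ k < 10) : gl k = 1 := by
  have : LyGroup.five (k / 2) = none := by
    match hq : k / 2 with
    | 0 | 1 | 2 | 3 | 4 => omega
    | _ + 5 => rfl
  simp [gl, this]

theorem commute_false (h : ∀ x y : P4, x * y = y * x) : False := by
  have e1 : L 4 * L 4 * L 4 = 1 := by
    have h1 : (([1, 1, 4, 0, 0, 4, 4] : List ℕ).map L).prod = (([] : List ℕ).map L).prod :=
      eqA_eq (by decide +kernel)
    simp only [List.map_cons, List.map_nil, List.prod_cons, List.prod_nil, mul_one] at h1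
    have h0 : L 1 = (L 0)⁻¹ := L_flp 0
    rw [h0, show L 4 * (L 0 * (L 0 * (L 4 * L 4))) = L 0 * L 0 * (L 4 * L 4 * L 4) by
      rw [show L 4 * (L 0 * (L 0 * (L 4 * L 4))) = L 4 * (L 0 * L 0) * (L 4 * L 4) by group, h (L 4) (L 0 * L 0)]
      group] at h1
    rw [← h1]
    group
  have e2 : L 4 * L 4 * L 4 * L 4 * L 4 = 1 := by
    have h1 : (([4, 4, 4, 4, 4] : List ℕ).map L).prod = (([] : List ℕ).map L).prod :=
      eqA_eq (by decide +kernel)
    simp only [List.map_cons, List.map_nil, List.prod_cons, List.prod_nil, mul_one, ← mul_assoc] at h1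
    exact h1
  rw [e1, one_mul] at e2
  have hc : L 4 = 1 := by rwa [e2, one_mul] at e1
  refine LyRep.rho_c_ne ?_
  have h' := congrArg toLy hc
  rw [toLy_L (by norm_num), map_one] at h'
  rw [show (PresentedGroup.of Spor.Ly.Gen.c : Spor.Ly) = gl 4 from rfl, h', map_one]

theorem P4_commutator : commutator P4 = ⊤ := by
  haveI := LyGTwo.isSimple_P4
  refine (IsSimpleGroup.eq_bot_or_eq_top_of_normal (commutator P4) inferInstance).resolve_left fun h => ?_
  refine commute_false fun x y => ?_
  have : ⁅x, y⁆ ∈ commutator P4 := Subgroup.commutator_mem_commutator (Subgroup.mem_top x) (Subgroup.mem_top y)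
  rw [h, Subgroup.mem_bot, commutatorElement_eq_one_iff_mul_comm] at this
  exact this

theorem rho_gl {k : ℕ} : LyRep.rho (gl k) = LyRep.unit k := by
  have key : ∀ i : ℕ, i < 5 → ∀ g, LyGroup.five i = some g → LyGroup.defW g = [2 * i] := by
    intro i hi g hg
    interval_cases i <;> cases hg <;> rfl
  by_cases hk : k < 10
  · obtain ⟨g, hg⟩ : ∃ g, LyGroup.five (k / 2) = some g := by interval_cases k <;> exact ⟨_, rfl⟩
    have hw : LyRep.rho (PresentedGroup.of g) = LyRep.unit (2 * (k / 2)) := by
      rw [LyRep.rho, LyGroup.lift_of, key _ (by omega) g hg]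
      simp
    rcases Nat.mod_two_eq_zero_or_one k with h | h
    · rw [show gl k = PresentedGroup.of g by simp [gl, hg, h], hw]
      congr 1
      omega
    · rw [show gl k = (PresentedGroup.of g)⁻¹ by simp [gl, hg, h], map_inv, hw, ← LyRep.unit_flp]
      congr 1
      show (2 * (k / 2)) ^^^ 1 = k
      interval_cases k <;> first | rfl | omega
  · rw [gl_big hk, map_one]
    simp [LyRep.unit, hk]

theorem rho_injective [IsSimpleGroup Spor.Ly] : Function.Injective LyRep.rho := by
  rcases LyRep.rho.normal_ker.eq_bot_or_eq_top with h | h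
  · exact (MonoidHom.ker_eq_bot_iff _).1 h
  · exact absurd (MonoidHom.mem_ker.1 (h ▸ Subgroup.mem_top _)) LyRep.rho_c_ne

theorem gl_prod_one [IsSimpleGroup Spor.Ly] {w : List ℕ} (hlt : w.all (fun x => Nat.blt x 10) = true)
    (h : Nat.beq (LyRep.evalSp LyRep.rmLit LyRep.maskLit LyRep.oneLit LyRep.spMats w) LyRep.oneLit = true) :
    (w.map gl).prod = 1 := by
  apply rho_injective
  have hw : ∀ x ∈ w, x < 10 := fun x hx => by simpa using List.all_eq_true.1 hlt x hx
  rw [map_one, map_list_prod, List.map_map,
    List.map_congr_left (f := LyRep.rho ∘ gl) (g := LyRep.unit) fun x _ => rho_gl]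
  apply Units.ext
  rw [Units.val_one, ← Units.coeHom_apply, map_list_prod, List.map_map]
  rw [← LyRep.prod_mat_eq_one hw (Nat.eq_of_beq_eq_true h)]
  exact congrArg List.prod (List.map_congr_left fun x hx => LyRep.unit_val (hw x hx))

end CfsgLib.Sporadic.LyMult
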